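import Cfsg.Agent.Lib.ExtremelyClosed.NotConj
import Cfsg.Agent.Lib.Coprime.Generation
import Mathlib.RepresentationTheory.Invariants

/-!
# Extremely closed abelian 2-subgroups: all nonidentity elements conjugate

Then the principal block gives `∑ C²((m - 1)χ(1) - m C)/χ(1) = 0` with `m = |H| - 1`, and the fixed
spaces of the groups `O(C(a))` give `m C ≤ (m - 1)χ(1)` for the nontrivial characters.
-/

set_option linter.style.haveILetI false
set_option linter.unusedSectionVars false

namespace Cfsg.Agent.ExtremelyClosed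

open Cfsg Subgroup
open scoped ComplexConjugate Classical Pointwise

universe u

variable {G : Type u} [Group G] [Finite G] {H : Subgroup G}

/-- An involution `a` with constant value `C` on `a K`, `K` centralized by `a`, has `C` at most
the dimension of the fixed space of `K`. -/
theorem le_finrank_invariants {n : ℕ} (ρ : Representation ℂ G (Fin n → ℂ)) (K : Subgroup G)
    {a : G} (ha : a * a = 1) (hc : ∀ u ∈ K, Commute a u) {C : ℤ}
    (hC : ∀ u ∈ K, ρ.character (a * u) = (C : ℂ)) :
    C ≤ Module.finrank ℂ (Representation.invariants (ρ.comp K.subtype)) := by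
  haveI := Fintype.ofFinite K
  have hcard : (Fintype.card K : ℂ) ≠ 0 := Nat.cast_ne_zero.2 Fintype.card_ne_zero
  letI := invertibleOfNonzero hcard
  set P : Module.End ℂ (Fin n → ℂ) := Representation.averageMap (ρ.comp K.subtype)
  have hproj := Representation.isProj_averageMap (ρ.comp K.subtype)
  have hP : P = (⅟(Fintype.card K : ℂ)) • ∑ u : K, ρ u := by
    simp [P, Representation.averageMap, GroupAlgebra.average, map_sum]
  have hPP : P * P = P := LinearMap.ext fun v => hproj.map_id _ (hproj.map_mem v)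
  have htrP : LinearMap.trace ℂ _ P =
      (Module.finrank ℂ (Representation.invariants (ρ.comp K.subtype)) : ℂ) := hproj.trace
  have hcomm : ρ a * P = P * ρ a := by
    rw [hP, mul_smul_comm, smul_mul_assoc, Finset.mul_sum, Finset.sum_mul]
    congr 1
    refine Finset.sum_congr rfl fun u _ => ?_
    rw [← map_mul, ← map_mul, (hc u u.2).eq]
  have haa : ρ a * ρ a = 1 := by rw [← map_mul, ha, map_one]
  have htraP : LinearMap.trace ℂ _ (ρ a * P) = (C : ℂ) := by
    rw [hP, mul_smul_comm, Finset.mul_sum, map_smul, map_sum,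
      Finset.sum_congr rfl (g := fun _ => (C : ℂ))
        (fun u _ => by rw [← map_mul]; exact hC (u : G) u.2), Finset.sum_const,
      Finset.card_univ, nsmul_eq_mul, smul_eq_mul, ← mul_assoc, invOf_mul_self, one_mul]
  set Q : Module.End ℂ (Fin n → ℂ) := (2 : ℂ)⁻¹ • (P - ρ a * P)
  have hQ : IsIdempotentElem Q := by
    have e1 : ρ a * P * P = ρ a * P := by rw [mul_assoc, hPP]
    have e2 : P * (ρ a * P) = ρ a * P := by rw [← mul_assoc, ← hcomm, mul_assoc, hPP]
    have e3 : ρ a * P * (ρ a * P) = P := by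
      rw [mul_assoc, e2, ← mul_assoc, haa, one_mul]
    show Q * Q = Q
    simp only [Q, smul_mul_assoc, mul_smul_comm, sub_mul, mul_sub, hPP, e1, e2, e3]
    module
  have htrQ : LinearMap.trace ℂ _ Q = (Module.finrank ℂ (LinearMap.range Q) : ℂ) :=
    (LinearMap.IsIdempotentElem.isProj_range _ hQ).trace
  rw [map_smul, map_sub, htrP, htraP, smul_eq_mul, inv_mul_eq_iff_eq_mul₀ two_ne_zero] at htrQ
  have : (Module.finrank ℂ (Representation.invariants (ρ.comp K.subtype)) : ℤ) - C =
      2 * (Module.finrank ℂ (LinearMap.range Q) : ℤ) := by exact_mod_cast htrQ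
  omega

theorem sub_finrank_inf_le {n : ℕ} {ι : Type*} (s : Finset ι)
    (f : ι → Submodule ℂ (Fin n → ℂ)) :
    (n : ℤ) - Module.finrank ℂ (s.inf f : Submodule ℂ (Fin n → ℂ)) ≤
      ∑ i ∈ s, ((n : ℤ) - Module.finrank ℂ (f i)) := by
  induction s using Finset.induction_on with
  | empty =>
    rw [Finset.inf_empty, finrank_top, Module.finrank_fin_fun, Finset.sum_empty, sub_self]
  | insert i s hi ih =>
    rw [Finset.inf_insert, Finset.sum_insert hi]
    have h1 := Submodule.finrank_sup_add_finrank_inf_eq (f i) (s.inf f)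
    have h2 : Module.finrank ℂ (f i ⊔ s.inf f : Submodule ℂ (Fin n → ℂ)) ≤ n :=
      (Submodule.finrank_le _).trans (le_of_eq (Module.finrank_fin_fun ℂ))
    omega

theorem map_oc_le (X : Subgroup G) (g : G) :
    (oc X).map (MulAut.conj g).toMonoidHom ≤ oc (X.map (MulAut.conj g).toMonoidHom) := by
  rintro _ ⟨_, ⟨x, hx, rfl⟩, rfl⟩
  refine ⟨X.equivMapOfInjective _ (MulEquiv.injective (MulAut.conj g)) x, ?_, rfl⟩
  exact (PCore.mem_pPrimeCore_congr _).mpr hx

theorem map_conj_centralizer (a g : G) :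
    (centralizer ({a} : Set G)).map (MulAut.conj g).toMonoidHom =
      centralizer ({g * a * g⁻¹} : Set G) := by
  ext x
  rw [mem_map_equiv, mem_centralizer_singleton_iff, mem_centralizer_singleton_iff,
    MulAut.conj_symm_apply]
  constructor <;> intro h
  · calc x * (g * a * g⁻¹) = g * (g⁻¹ * x * g * a) * g⁻¹ := by group
      _ = g * (a * (g⁻¹ * x * g)) * g⁻¹ := by rw [h]
      _ = _ := by group
  · calc g⁻¹ * x * g * a = g⁻¹ * (x * (g * a * g⁻¹)) * g := by group
      _ = g⁻¹ * (g * a * g⁻¹ * x) * g := by rw [h]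
      _ = _ := by group

namespace MinCfg

variable (c : MinCfg H) {M : Ideal AlgInt} (hM : IsPModular 2 M)
include c

/-- The group generated by the `O(C(a))`, `a ∈ H \ {1}`. -/
def thetaSup (_ : MinCfg H) : Subgroup G :=
  ⨆ b : {b : G // b ∈ H ∧ b ≠ 1}, centralizerPPrimeCore 2 (b : G)

theorem oc_le_thetaSup (hnc : ¬ IsCyclic H) (g : G) : oc (pair H g) ≤ c.thetaSup := by
  haveI := c.ab
  have h := Coprime.eq_of_forall_centralizer_le (A := H) (K := oc (pair H g))
    (S := oc (pair H g) ⊓ c.thetaSup) hnc (c.le_normalizer_oc_pair g)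
    (coprime_card c.two (odd_card_oc _)) inf_le_left fun a ha ha1 u hu => ⟨hu.1,
      le_iSup (fun b : {b : G // b ∈ H ∧ b ≠ 1} => centralizerPPrimeCore 2 (b : G)) ⟨a, ha, ha1⟩
        (c.mem_theta ha ha1 hu.1 (mem_centralizer_singleton_iff.mp hu.2))⟩
  exact h.ge.trans inf_le_right

theorem nel_conj_thetaSup (g : G) :
    c.thetaSup.map (MulAut.conj (c.nel g)).toMonoidHom ≤ c.thetaSup := by
  rw [thetaSup, Subgroup.map_iSup]
  refine iSup_le fun b => ?_
  refine le_trans (map_oc_le (centralizer ({(b : G)} : Set G)) (c.nel g)) ?_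
  rw [map_conj_centralizer]
  exact le_iSup (fun d : {b : G // b ∈ H ∧ b ≠ 1} => centralizerPPrimeCore 2 (d : G))
    ⟨_, c.nel_conj_mem g b.2.1, fun h => b.2.2 (conj_eq_one_iff.mp h)⟩

theorem thetaSup_normal (hnc : ¬ IsCyclic H) : c.thetaSup.Normal := by
  refine ⟨fun w hw g => ?_⟩
  have ho := c.oc_le_thetaSup hnc g (c.mul_nel_inv_mem g)
  have h1 : c.nel g * w * (c.nel g)⁻¹ ∈ c.thetaSup := c.nel_conj_thetaSup g ⟨w, hw, rfl⟩
  have := mul_mem (mul_mem ho h1) (inv_mem ho)
  convert this using 1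
  group

theorem thetaSup_sup_eq_top (hnc : ¬ IsCyclic H) : H ⊔ c.thetaSup = ⊤ := by
  haveI := c.thetaSup_normal hnc
  haveI : (H ⊔ c.thetaSup).Normal := by
    refine ⟨fun x hx g => ?_⟩
    obtain ⟨a, ha, w, hw, rfl⟩ := Subgroup.mem_sup_of_normal_right.mp hx
    have ho := c.oc_le_thetaSup hnc g (c.mul_nel_inv_mem g)
    have h1 := mul_mem (mul_mem (mem_sup_right (S := H) ho)
      (mem_sup_left (T := c.thetaSup) (c.nel_conj_mem g ha))) (mem_sup_right (S := H) (inv_mem ho))
    have h2 := mul_mem h1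
      (mem_sup_right (S := H) ((inferInstance : c.thetaSup.Normal).conj_mem w hw g))
    convert h2 using 1
    group
  exact c.normal_eq_top le_sup_left

include hM

/-- The bound on the value at an involution. -/
theorem value_bound [Fintype H] (hnc : ¬ IsCyclic H) (hinv : ∀ b ∈ H, b * b = 1)
    {χ : IrrCharacter G} (hχ : χ ∈ bl M G) {C : ℤ}
    (hC : ∀ b ∈ H, b ≠ 1 → χ.1 b = (C : ℂ)) (htriv : χ ≠ Char.trivialChar G)
    (hconj : ∃ a b : G, a ∈ H ∧ b ∈ H ∧ a ≠ b ∧ IsConj a b) {n : ℕ} (hn : χ.1 1 = (n : ℂ)) :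
    ((Nat.card H : ℤ) - 1) * C ≤ ((Nat.card H : ℤ) - 2) * n := by
  haveI : Fact (Nat.Prime 2) := ⟨Nat.prime_two⟩
  obtain ⟨n', ρ, hirr, hρ⟩ := χ.2
  have hnn : n' = n := by
    have := congrFun hρ 1
    rw [ρ.char_one, hn, Module.finrank_fin_fun] at this
    exact_mod_cast this
  subst hnn
  let f : H → Submodule ℂ (Fin n' → ℂ) := fun b =>
    Representation.invariants (ρ.comp (centralizerPPrimeCore 2 (b : G)).subtype)
  set s : Finset H := Finset.univ.erase 1
  have hd : ∀ b ∈ s, C ≤ Module.finrank ℂ (f b) := by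
    intro b hb
    have hb1 : (b : G) ≠ 1 := fun h => (Finset.mem_erase.mp hb).1 (Subtype.ext h)
    refine le_finrank_invariants ρ _ (hinv b b.2) (fun u hu => ?_) fun u hu => ?_
    · exact (mem_centralizer_singleton_iff.mp (map_subtype_le _ hu)).symm
    · obtain ⟨i, hi⟩ := IsPGroup.iff_orderOf.mp c.two b
      rw [hρ, ZStar.apply_mul_pPrimeCore hM (p := 2) ⟨i, by rw [Subgroup.orderOf_coe, hi]⟩ hu
        (mem_bl.mp hχ), hC b b.2 hb1]
  have hs : (s.card : ℤ) = (Nat.card H : ℤ) - 1 := by
    rw [Finset.card_erase_of_mem (Finset.mem_univ _), Finset.card_univ, ← Nat.card_eq_fintype_card]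
    have : 0 < Nat.card H := Nat.card_pos
    omega
  set F : Submodule ℂ (Fin n' → ℂ) := s.inf f
  haveI := c.thetaSup_normal hnc
  have hmem : ∀ v, v ∈ F ↔ ∀ w ∈ c.thetaSup, ρ w v = v := by
    intro v
    constructor
    · intro hv
      let K : Subgroup G :=
        { carrier := {w | ρ w v = v}
          one_mem' := by simp
          mul_mem' := fun {x y} hx hy => by
            show ρ (x * y) v = v
            rw [map_mul, Module.End.mul_apply, hy, hx]
          inv_mem' := fun {x} hx => by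
            have hx' : ρ x v = v := hx
            show ρ x⁻¹ v = v
            conv_lhs => rw [← hx']
            rw [← Module.End.mul_apply, ← map_mul, inv_mul_cancel, map_one, Module.End.one_apply] }
      have hle : c.thetaSup ≤ K := iSup_le fun b w hw => by
        have hb : (⟨b, b.2.1⟩ : H) ∈ s :=
          Finset.mem_erase.mpr ⟨fun h => b.2.2 (congrArg Subtype.val h), Finset.mem_univ _⟩
        exact (Submodule.mem_finsetInf.mp hv _ hb) ⟨w, hw⟩
      exact fun w hw => hle hw
    · intro h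
      refine Submodule.mem_finsetInf.mpr fun b hb w => h (w : G) ?_
      exact le_iSup (fun d : {b : G // b ∈ H ∧ b ≠ 1} => centralizerPPrimeCore 2 (d : G))
        ⟨b, b.2, fun h' => (Finset.mem_erase.mp hb).1 (Subtype.ext h')⟩ w.2
  haveI := hirr
  let S : Subrepresentation ρ := ⟨F, fun g v hv => (hmem _).mpr fun w hw => by
    have hw' : g⁻¹ * w * g ∈ c.thetaSup :=
      (inferInstance : c.thetaSup.Normal).conj_mem' w hw g
    calc ρ w (ρ g v) = ρ (g * (g⁻¹ * w * g)) v := by
          rw [← Module.End.mul_apply, ← map_mul]; congr 2; group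
      _ = ρ g v := by rw [map_mul, Module.End.mul_apply, (hmem v).mp hv _ hw']⟩
  rcases IsSimpleOrder.eq_bot_or_eq_top S with hS | hS
  · have hF : F = ⊥ := congrArg Subrepresentation.toSubmodule hS
    have h1 := sub_finrank_inf_le s f
    rw [show s.inf f = F from rfl, hF, finrank_bot] at h1
    have h2 : ∑ i ∈ s, ((n' : ℤ) - Module.finrank ℂ (f i)) ≤ ∑ i ∈ s, ((n' : ℤ) - C) :=
      Finset.sum_le_sum fun i hi => by linarith [hd i hi]
    rw [Finset.sum_const, nsmul_eq_mul, hs] at h2
    push_cast at h1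
    linarith [h1, h2]
  · exfalso
    have hF : F = ⊤ := congrArg Subrepresentation.toSubmodule hS
    obtain ⟨a, b, ha, hb, hab, hconj⟩ := hconj
    obtain ⟨g, hg⟩ := isConj_iff.1 hconj
    obtain ⟨h', hh', w, hw, e⟩ := Subgroup.mem_sup_of_normal_right.mp
      (show g ∈ H ⊔ c.thetaSup from c.thetaSup_sup_eq_top hnc ▸ mem_top g)
    have hba : b * a⁻¹ ∈ c.thetaSup := by
      have hn := (inferInstance : c.thetaSup.Normal)
      have h1 := hn.conj_mem _ (mul_mem hw (hn.conj_mem _ (inv_mem hw) a)) h'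
      convert h1 using 1
      rw [← hg, ← e]
      calc h' * w * a * (h' * w)⁻¹ * a⁻¹ = h' * w * a * w⁻¹ * (a * h')⁻¹ := by group
        _ = h' * w * a * w⁻¹ * (h' * a)⁻¹ := by rw [commute_of_mem c.ab hh' ha]
        _ = _ := by group
    have hba1 : b * a⁻¹ ≠ 1 := fun h => hab (mul_inv_eq_one.1 h).symm
    have hker : ρ (b * a⁻¹) = 1 := LinearMap.ext fun v => by
      rw [Module.End.one_apply]
      exact (hmem v).mp (hF ▸ Submodule.mem_top) _ hba
    have hCn : (C : ℂ) = χ.1 1 := by
      rw [← hC _ (mul_mem hb (inv_mem ha)) hba1, ← hρ]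
      simp [Representation.character, hker]
    refine htriv (c.trivial_of_le_kernel fun x hx => ?_)
    by_cases hx1 : x = 1
    · rw [hx1]
    · rw [hC x hx hx1, hCn]

/-- All nonidentity elements conjugate: contradiction. -/
theorem false_of_forall_isConj [Fintype H]
    (hall : ∀ a ∈ H, a ≠ 1 → ∀ b ∈ H, b ≠ 1 → IsConj a b) : False := by
  haveI : Fact (Nat.Prime 2) := ⟨Nat.prime_two⟩
  haveI := hM.2.1
  obtain ⟨a, ha, ha2, -⟩ := c.exists_involution
  have ha1 : a ≠ 1 := fun h => by simp [h] at ha2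
  have haa : a * a = 1 := by
    have := pow_orderOf_eq_one a
    rwa [ha2, pow_two] at this
  have hinv : ∀ b ∈ H, b * b = 1 := by
    intro b hb
    by_cases hb1 : b = 1
    · rw [hb1, one_mul]
    · obtain ⟨g, rfl⟩ := isConj_iff.1 (hall a ha ha1 b hb hb1)
      rw [show g * a * g⁻¹ * (g * a * g⁻¹) = g * (a * a) * g⁻¹ by group, haa]
      group
  obtain ⟨k, hk⟩ := IsPGroup.iff_card.mp c.two
  by_cases hk1 : k ≤ 1
  · refine c.false_of_fixed ha ha2 fun b hb hab => ?_
    have hle : zpowers a = H := Subgroup.eq_of_le_of_card_ge (zpowers_le.mpr ha) (by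
      rw [Nat.card_zpowers, ha2, hk]
      exact (Nat.pow_le_pow_right two_pos hk1).trans (le_of_eq (pow_one 2)))
    rw [← hle, mem_zpowers_iff] at hb
    obtain ⟨i, rfl⟩ := hb
    rcases Int.even_or_odd i with ⟨j, rfl⟩ | ⟨j, rfl⟩
    · refine absurd ?_ ha1
      rw [zpow_add, ← (Commute.refl a).mul_zpow, haa, one_zpow] at hab
      exact isConj_one_left.mp hab
    · rw [zpow_add, zpow_one, two_mul, zpow_add, ← (Commute.refl a).mul_zpow, haa, one_zpow,
        one_mul]
  have h4 : 4 ≤ Nat.card H := by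
    rw [hk]
    exact (le_of_eq (by norm_num : 4 = 2 ^ 2)).trans (Nat.pow_le_pow_right two_pos (by omega))
  have hnc : ¬ IsCyclic H := by
    rintro ⟨x, hx⟩
    have h1 : orderOf x = Nat.card H := orderOf_eq_card_of_forall_mem_zpowers hx
    have h2 : orderOf x ∣ 2 := orderOf_dvd_of_pow_eq_one
      (Subtype.ext (by rw [pow_two]; exact hinv x x.2))
    have := Nat.le_of_dvd two_pos h2
    omega
  obtain ⟨b, hb1, hba⟩ := Finset.exists_mem_notMem_of_card_lt_card
    (s := ({1, ⟨a, ha⟩} : Finset H)) (t := Finset.univ) (by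
      rw [Finset.card_univ, ← Nat.card_eq_fintype_card]
      exact lt_of_le_of_lt Finset.card_le_two (by omega))
  simp only [Finset.mem_insert, Finset.mem_singleton, not_or] at hba
  have hconj : ∃ a b : G, a ∈ H ∧ b ∈ H ∧ a ≠ b ∧ IsConj a b :=
    ⟨a, b, ha, b.2, fun h => hba.2 (Subtype.ext h.symm),
      hall a ha ha1 b b.2 fun h => hba.1 (Subtype.ext h)⟩
  choose z hz using fun χ : IrrCharacter G =>
    Exceptional.exists_int_apply_invol (Char.irr_isCharacter χ) haa
  have hval : ∀ χ : IrrCharacter G, ∀ d ∈ H, d ≠ 1 → χ.1 d = (z χ : ℂ) := fun χ d hd hd1 => by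
    rw [← hz χ, CharInt.char_eq_of_isConj (Char.irr_isCharacter χ) (hall a ha ha1 d hd hd1)]
  set m : ℝ := (Nat.card H : ℝ) - 1 with hm
  have hm3 : (3 : ℝ) ≤ m := by
    have : (4 : ℝ) ≤ (Nat.card H : ℝ) := by exact_mod_cast h4
    linarith
  have hS : ∀ χ : IrrCharacter G,
      sumH H χ = (((Char.degree χ : ℝ) + m * (z χ : ℝ) : ℝ) : ℂ) := by
    intro χ
    rw [sumH, ← Finset.add_sum_erase Finset.univ _ (Finset.mem_univ (1 : H)),
      Finset.sum_congr rfl (g := fun _ => (z χ : ℂ)) (fun (d : H) hd => hval χ (d : G) d.2 fun h =>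
        (Finset.mem_erase.mp hd).1 (Subtype.ext h)),
      Finset.sum_const, Finset.card_erase_of_mem (Finset.mem_univ _), Finset.card_univ,
      ← Nat.card_eq_fintype_card, nsmul_eq_mul, Nat.cast_sub (show 1 ≤ Nat.card H by omega),
      OneMemClass.coe_one, Char.apply_one_eq_degree, hm]
    push_cast
    ring
  have hpair := c.pairing hM ha ha1 ha ha1
  have hweak := weak_orth (G := G) hM (x := 1) (by simp [IsPRegular]) (not_isPRegular c.two ha ha1)
  simp only [hS, Char.apply_one_eq_degree, hz, map_intCast] at hpair hweak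
  have hpair' : ∑ χ ∈ bl M G, ((Char.degree χ : ℝ) + m * z χ) / (Char.degree χ : ℝ) * z χ * z χ =
      ∑ χ ∈ bl M G, ((Char.degree χ : ℝ) + m * z χ) * z χ := by
    apply Complex.ofReal_injective
    push_cast
    push_cast at hpair
    exact hpair
  have hweak' : ∑ χ ∈ bl M G, (Char.degree χ : ℝ) * (z χ : ℝ) = 0 := by
    apply Complex.ofReal_injective
    push_cast
    exact hweak
  set T : IrrCharacter G → ℝ := fun χ =>
    (z χ : ℝ) ^ 2 * ((m - 1) * (Char.degree χ : ℝ) - m * z χ) / (Char.degree χ : ℝ)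
  have hdeg : ∀ χ : IrrCharacter G, (1 : ℝ) ≤ (Char.degree χ : ℝ) := fun χ => by
    exact_mod_cast Char.degree_pos χ
  have hT : ∑ χ ∈ bl M G, T χ = 0 := by
    have e : ∀ χ ∈ bl M G, T χ = (((Char.degree χ : ℝ) + m * z χ) * z χ -
        ((Char.degree χ : ℝ) + m * z χ) / (Char.degree χ : ℝ) * z χ * z χ) -
        (Char.degree χ : ℝ) * (z χ : ℝ) := by
      intro χ _
      have := hdeg χ
      simp only [T]
      field_simp
      ring
    rw [Finset.sum_congr rfl e, Finset.sum_sub_distrib, Finset.sum_sub_distrib, hpair', hweak']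
    ring
  have htd : Char.degree (Char.trivialChar G) = 1 := by
    have := Char.apply_one_eq_degree (Char.trivialChar G)
    simp only [Char.trivialChar] at this
    exact_mod_cast this.symm
  have htz : z (Char.trivialChar G) = 1 := by
    have := hz (Char.trivialChar G)
    simp only [Char.trivialChar] at this
    exact_mod_cast this.symm
  have htr : T (Char.trivialChar G) = -1 := by simp [T, htd, htz]
  have hnonneg : ∀ χ ∈ bl M G, χ ≠ Char.trivialChar G → 0 ≤ T χ := by
    intro χ hχ hne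
    have hb := c.value_bound hM hnc hinv hχ (hval χ) hne hconj (Char.apply_one_eq_degree χ)
    have hb' : m * (z χ : ℝ) ≤ (m - 1) * (Char.degree χ : ℝ) := by
      have : (((Nat.card H : ℤ) - 1) * z χ : ℝ) ≤ (((Nat.card H : ℤ) - 2) * (Char.degree χ : ℤ) : ℝ) :=
        by exact_mod_cast hb
      push_cast at this
      rw [hm]
      linarith
    exact div_nonneg (mul_nonneg (sq_nonneg _) (by linarith)) (by linarith [hdeg χ])
  obtain ⟨ψ, hψ, hψneg⟩ : ∃ ψ ∈ bl M G, z ψ < 0 := by
    by_contra hcon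
    push Not at hcon
    have h1 := Finset.single_le_sum (f := fun χ => (Char.degree χ : ℝ) * (z χ : ℝ))
      (fun χ hχ => mul_nonneg (Nat.cast_nonneg _) (by exact_mod_cast hcon χ hχ))
      (triv_mem_bl (M := M) (G := G))
    rw [hweak', htd, htz] at h1
    norm_num at h1
  have hψne : ψ ≠ Char.trivialChar G := fun h => by rw [h, htz] at hψneg; omega
  have hψT : 2 ≤ T ψ := by
    have h1 : (z ψ : ℝ) ≤ -1 := by exact_mod_cast (show z ψ ≤ -1 by omega)
    have h2 := hdeg ψ
    simp only [T]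
    rw [le_div_iff₀ (by linarith)]
    have e1 : (1 : ℝ) ≤ (z ψ : ℝ) ^ 2 := by nlinarith
    have e2 : 2 * (Char.degree ψ : ℝ) ≤ (m - 1) * Char.degree ψ - m * (z ψ : ℝ) := by nlinarith
    calc (2 : ℝ) * Char.degree ψ = 1 * (2 * Char.degree ψ) := (one_mul _).symm
      _ ≤ _ := mul_le_mul e1 e2 (by linarith) (sq_nonneg _)
  have hsub : ({Char.trivialChar G, ψ} : Finset (IrrCharacter G)) ⊆ bl M G := by
    intro χ hχ
    simp only [Finset.mem_insert, Finset.mem_singleton] at hχ
    rcases hχ with rfl | rfl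
    · exact triv_mem_bl
    · exact hψ
  have hle := Finset.sum_le_sum_of_subset_of_nonneg hsub fun χ hχ hnot =>
    hnonneg χ hχ fun h => hnot (by simp [h])
  rw [Finset.sum_pair (Ne.symm hψne), htr, hT] at hle
  linarith

end MinCfg

end Cfsg.Agent.ExtremelyClosed
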