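import Cfsg.Agent.Lib.Coprime.Basic
import Cfsg.Agent.Lib.PCore.Basic
import Cfsg.Agent.Lib.PGroup.Basic
import Cfsg.Prelude.Def_SubgroupEmbedding
import Cfsg.Prelude.Def_Local
import Mathlib.GroupTheory.Transfer

/-!
# Extremely closed abelian 2-subgroups: the group theory

`Data H` collects what an inductive proof of `G = N(H) O(G)` may use.
-/

set_option linter.style.haveILetI false
set_option linter.unusedSectionVars false

namespace Cfsg.Agent.ExtremelyClosed

open Cfsg Subgroup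
open scoped Pointwise

universe u

variable {G : Type u} [Group G] {H : Subgroup G}

/-- `⟨H, gHg⁻¹⟩`. -/
def pair (H : Subgroup G) (g : G) : Subgroup G := H ⊔ H.map (MulAut.conj g).toMonoidHom

/-- The odd core of a subgroup, in `G`. -/
def oc (X : Subgroup G) : Subgroup G := (oddCore X).map X.subtype

theorem le_pair (g : G) : H ≤ pair H g := le_sup_left

theorem conj_mem_pair {g a : G} (ha : a ∈ H) : g * a * g⁻¹ ∈ pair H g :=
  mem_sup_right ⟨a, ha, rfl⟩

theorem oc_le (X : Subgroup G) : oc X ≤ X := map_subtype_le _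

theorem le_normalizer_oc (X : Subgroup G) : X ≤ normalizer (oc X : Set G) := by
  intro x hx
  rw [mem_normalizer_iff]
  intro y
  haveI hn : (oddCore X).Normal := inferInstance
  constructor
  · rintro ⟨z, hz, rfl⟩
    exact ⟨⟨x, hx⟩ * z * ⟨x, hx⟩⁻¹, hn.conj_mem z hz _, rfl⟩
  · rintro ⟨z, hz, e⟩
    refine ⟨⟨x, hx⟩⁻¹ * z * ⟨x, hx⟩, by simpa using hn.conj_mem z hz ⟨x, hx⟩⁻¹, ?_⟩
    have e' : (z : G) = x * y * x⁻¹ := e
    show x⁻¹ * (z : G) * x = y
    rw [e']; group

theorem isSolvable_of_comm (hab : IsMulCommutative H) : Group.IsSolvable H :=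
  Group.isSolvable_of_comm fun x y => mul_comm' x y

theorem commute_of_mem (hab : IsMulCommutative H) {a b : G} (ha : a ∈ H) (hb : b ∈ H) :
    a * b = b * a :=
  congrArg Subtype.val (hab.is_comm.comm ⟨a, ha⟩ ⟨b, hb⟩)

theorem conj_map_eq_smul (g : G) (H : Subgroup G) :
    H.map (MulAut.conj g).toMonoidHom = MulAut.conj g • H := rfl

variable [Finite G]

theorem odd_card_oc (X : Subgroup G) : Odd (Nat.card (oc X)) := by
  rw [oc, Subgroup.card_map_of_injective X.subtype_injective]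
  exact PCore.odd_card_oddCore

theorem odd_orderOf_of_mem {N : Subgroup G} (hN : Odd (Nat.card N)) {x : G} (hx : x ∈ N) :
    Odd (orderOf x) := hN.of_dvd_nat (Subgroup.orderOf_dvd_natCard N hx)

theorem coprime_card (hH : IsPGroup 2 H) {N : Subgroup G} (hN : Odd (Nat.card N)) :
    (Nat.card H).Coprime (Nat.card N) := by
  haveI : Fact (Nat.Prime 2) := ⟨Nat.prime_two⟩
  obtain ⟨k, hk⟩ := IsPGroup.iff_card.mp hH
  rw [hk]
  exact Nat.Coprime.pow_left _ hN.coprime_two_left

theorem eq_one_of_odd (hH : IsPGroup 2 H) {x : G} (hx : x ∈ H) (ho : Odd (orderOf x)) : x = 1 := by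
  haveI : Fact (Nat.Prime 2) := ⟨Nat.prime_two⟩
  obtain ⟨k, hk⟩ := IsPGroup.iff_orderOf.mp hH ⟨x, hx⟩
  rw [Subgroup.orderOf_mk] at hk
  rw [hk] at ho
  rcases k with _ | k
  · exact orderOf_eq_one_iff.mp (by simpa using hk)
  · exact absurd ho (by simp [Nat.not_odd_iff_even, pow_succ])

/-- Elements of odd order of `H N` lie in `N`, for a 2-group `H` normalizing an odd `N`. -/
theorem mem_of_odd_of_mem_sup (hH : IsPGroup 2 H) {N : Subgroup G}
    (hHN : H ≤ normalizer (N : Set G)) (hN : Odd (Nat.card N)) {x : G} (hx : x ∈ H ⊔ N)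
    (ho : Odd (orderOf x)) : x ∈ N := by
  obtain ⟨a, ha, n, hn, rfl⟩ := (Coprime.mem_sup_iff_of_le_normalizer hHN).1 hx
  have key : ∀ k : ℕ, (a ^ k)⁻¹ * (a * n) ^ k ∈ N := by
    intro k
    induction k with
    | zero => simp
    | succ k ih =>
      have h1 := (mem_normalizer_iff.1 (hHN (inv_mem ha)) _).1 ih
      have h2 := mul_mem h1 hn
      convert h2 using 1
      rw [pow_succ a, pow_succ (a * n)]
      group
  have h := key (orderOf (a * n))
  rw [pow_orderOf_eq_one, mul_one, inv_mem_iff] at h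
  have h1 : a ^ orderOf (a * n) = 1 :=
    eq_one_of_odd hH (pow_mem ha _) (odd_orderOf_of_mem hN h)
  have h2 : a = 1 :=
    eq_one_of_odd hH ha (ho.of_dvd_nat (orderOf_dvd_of_pow_eq_one h1))
  rwa [h2, one_mul]

theorem mem_normalizer_of_map_le {g : G} (h : H.map (MulAut.conj g).toMonoidHom ≤ H) :
    g ∈ normalizer (H : Set G) := by
  have e : H.map (MulAut.conj g).toMonoidHom = H := Subgroup.eq_of_le_of_card_ge h
    (le_of_eq (Subgroup.card_map_of_injective (MulEquiv.injective _)).symm)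
  rw [mem_normalizer_iff]
  intro y
  conv_rhs => rw [← e]
  constructor
  · intro hy
    exact ⟨y, hy, rfl⟩
  · rintro ⟨z, hz, e'⟩
    have : z = y := (MulAut.conj g).injective e'
    exact this ▸ hz

/-- A 2-group containing `H` in which `H` is self-normalizing equals `H`. -/
theorem eq_of_isPGroup_of_inf_normalizer_le {P : Subgroup G} (hP : IsPGroup 2 P) (hHP : H ≤ P)
    (h : P ⊓ normalizer (H : Set G) ≤ H) : P = H := by
  haveI : Fact (Nat.Prime 2) := ⟨Nat.prime_two⟩
  by_contra hne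
  have hne' : H.subgroupOf P ≠ ⊤ := fun ht => hne (le_antisymm (subgroupOf_eq_top.mp ht) hHP)
  obtain ⟨x, hx, hxn⟩ := SetLike.exists_of_lt (PGroup.lt_normalizer hP hne')
  refine hxn (mem_subgroupOf.mpr (h ⟨x.2, mem_normalizer_iff.mpr fun y => ?_⟩))
  constructor
  · intro hy
    exact (mem_normalizer_iff.1 hx ⟨y, hHP hy⟩).1 hy
  · intro hy
    have hy' : y ∈ P := by
      have := mul_mem (mul_mem (inv_mem x.2) (hHP hy)) x.2
      simpa [mul_assoc] using this
    exact (mem_normalizer_iff.1 hx ⟨y, hy'⟩).2 hy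

theorem pair_eq_self (hcl : IsExtremelyClosed H) {g : G} (hK : IsPGroup 2 (pair H g)) :
    g ∈ normalizer (H : Set G) := by
  have h := eq_of_isPGroup_of_inf_normalizer_le hK (le_pair g) (hcl g).le
  exact mem_normalizer_of_map_le (le_sup_right.trans h.le)

theorem le_normalizer_of_isPGroup (hcl : IsExtremelyClosed H) {P : Subgroup G}
    (hP : IsPGroup 2 P) (hHP : H ≤ P) : P ≤ normalizer (H : Set G) := by
  intro x hx
  refine pair_eq_self hcl (hP.to_le (sup_le hHP ?_))
  rintro _ ⟨y, hy, rfl⟩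
  exact mul_mem (mul_mem hx (hHP hy)) (inv_mem hx)

/-- An abelian self-normalizing 2-subgroup has a normal complement of odd order. -/
theorem sup_oddCore_eq_top_of_normalizer_eq (hH : IsPGroup 2 H) (hab : IsMulCommutative H)
    (hN : normalizer (H : Set G) = H) : normalizer (H : Set G) ⊔ oddCore G = ⊤ := by
  haveI : Fact (Nat.Prime 2) := ⟨Nat.prime_two⟩
  obtain ⟨T, hT⟩ := hH.exists_le_sylow
  have hTH : (T : Subgroup G) = H :=
    eq_of_isPGroup_of_inf_normalizer_le T.2 hT (inf_le_right.trans hN.le)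
  have hc : normalizer ((T : Subgroup G) : Set G) ≤ centralizer ((T : Subgroup G) : Set G) := by
    rw [hTH, hN]
    intro x hx
    rw [mem_centralizer_iff]
    exact fun y hy => commute_of_mem hab hy hx
  have hM := MonoidHom.ker_transferSylow_isComplement' T hc
  have hodd : Odd (Nat.card (MonoidHom.transferSylow T hc).ker) := by
    rw [← hM.index_eq_card, Nat.odd_iff]
    have := T.not_dvd_index
    omega
  have hle := PCore.le_oddCore hodd
  rw [eq_top_iff, ← hM.sup_eq_top]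
  exact sup_le (hle.trans le_sup_right) (hTH.le.trans (hN.ge.trans le_sup_left))

/-- What is known in the inductive step. -/
structure Data (H : Subgroup G) : Prop where
  two : IsPGroup 2 H
  ab : IsMulCommutative H
  cl : IsExtremelyClosed H
  proper : ∀ g, pair H g ≠ ⊤
  ind : ∀ X : Subgroup G, X ≠ ⊤ → H ≤ X →
    ∀ x ∈ X, ∃ n ∈ normalizer (H : Set G), ∃ o ∈ oc X, x = n * o

namespace Data

variable (d : Data H)
include d

omit [Finite G] in
theorem inf_normalizer {g x : G} (hx : x ∈ pair H g) (hn : x ∈ normalizer (H : Set G)) :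
    x ∈ H := (d.cl g).le ⟨hx, hn⟩

theorem exists_mul_oc {g x : G} (hx : x ∈ pair H g) :
    ∃ a ∈ H, ∃ r ∈ oc (pair H g), x = a * r := by
  obtain ⟨n, hn, r, hr, rfl⟩ := d.ind _ (d.proper g) (le_pair g) x hx
  refine ⟨n, d.inf_normalizer (g := g) ?_ hn, r, hr, rfl⟩
  simpa using mul_mem hx (inv_mem (oc_le _ hr))

theorem le_normalizer_oc_pair (g : G) : H ≤ normalizer (oc (pair H g) : Set G) :=
  (le_pair g).trans (le_normalizer_oc _)

theorem pair_le (g : G) : pair H g ≤ H ⊔ oc (pair H g) := fun x hx => by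
  obtain ⟨a, ha, r, hr, rfl⟩ := d.exists_mul_oc hx
  exact mul_mem_sup ha hr

theorem eq_one_of_mem_oc {g x : G} (hx : x ∈ oc (pair H g)) (hxH : x ∈ H) : x = 1 :=
  eq_one_of_odd d.two hxH (odd_orderOf_of_mem (odd_card_oc _) hx)

theorem eq_one_of_centralizer {g x : G} (hx : x ∈ oc (pair H g))
    (hc : x ∈ centralizer (H : Set G)) : x = 1 :=
  d.eq_one_of_mem_oc hx (d.inf_normalizer (oc_le _ hx) (Subgroup.centralizer_le_normalizer _ hc))

/-- An element of `R_g` moving `H` only inside `N` lies in `N`. -/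
theorem mem_of_commutator_mem {g u : G} {N : Subgroup G} (hu : u ∈ oc (pair H g))
    (hHN : H ≤ normalizer (N : Set G)) (hN : Odd (Nat.card N))
    (h : ∀ a ∈ H, u⁻¹ * a * u * a⁻¹ ∈ H ⊔ N) : u ∈ N := by
  set N₀ := oc (pair H g) ⊓ N
  have hHN₀ : H ≤ normalizer (N₀ : Set G) := fun a ha =>
    inf_normalizer_le_normalizer_inf ⟨d.le_normalizer_oc_pair g ha, hHN ha⟩
  have hN₀ : Odd (Nat.card N₀) := hN.of_dvd_nat (card_dvd_of_le inf_le_right)
  obtain ⟨n, hn, hc⟩ := Coprime.exists_mul_mem_centralizer hHN₀ (coprime_card d.two hN₀)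
    (Or.inl (isSolvable_of_comm d.ab)) (k := u) (fun a ha => by
      have hR : u⁻¹ * a * u * a⁻¹ ∈ oc (pair H g) := by
        have := mul_mem (inv_mem hu) ((mem_normalizer_iff.1 (d.le_normalizer_oc_pair g ha) u).1 hu)
        simpa [mul_assoc] using this
      exact ⟨hR, mem_of_odd_of_mem_sup d.two hHN hN (h a ha)
        (odd_orderOf_of_mem (odd_card_oc _) hR)⟩)
  have h1 := d.eq_one_of_centralizer (mul_mem hu hn.1) hc
  rw [mul_eq_one_iff_eq_inv] at h1
  exact h1 ▸ inv_mem hn.2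

theorem exists_conj_mul (g : G) :
    ∃ n ∈ normalizer (H : Set G), g * n⁻¹ ∈ oc (pair H g) := by
  obtain ⟨o, ho, e⟩ := Coprime.exists_conj_eq_of_le_sup (H := H)
    (K := H.map (MulAut.conj g).toMonoidHom) (d.le_normalizer_oc_pair g)
    ((le_sup_right (a := H)).trans (d.pair_le g))
    (Subgroup.card_map_of_injective (MulEquiv.injective _)) (coprime_card d.two (odd_card_oc _))
    (Or.inr (isSolvable_of_comm d.ab))
  refine ⟨o⁻¹ * g, mem_normalizer_of_map_le ?_, by simpa using ho⟩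
  rintro _ ⟨a, ha, rfl⟩
  have h1 : MulAut.conj g a ∈ MulAut.conj o • H := e.ge ⟨a, ha, rfl⟩
  rw [Coprime.mem_conj_smul_iff] at h1
  show (o⁻¹ * g) * a * (o⁻¹ * g)⁻¹ ∈ H
  convert h1 using 1
  rw [MulAut.conj_apply]
  group

/-- `g ↦ n` with `n ∈ N(H)` and `g n⁻¹ ∈ R_g`. -/
noncomputable def nel (g : G) : G := (d.exists_conj_mul g).choose

theorem nel_mem (g : G) : d.nel g ∈ normalizer (H : Set G) :=
  (d.exists_conj_mul g).choose_spec.1

theorem mul_nel_inv_mem (g : G) : g * (d.nel g)⁻¹ ∈ oc (pair H g) :=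
  (d.exists_conj_mul g).choose_spec.2

theorem nel_conj_mem (g : G) {a : G} (ha : a ∈ H) : d.nel g * a * (d.nel g)⁻¹ ∈ H :=
  (mem_normalizer_iff.1 (d.nel_mem g) a).1 ha

theorem conj_mul_nel_mem (g : G) {a : G} (ha : a ∈ H) :
    g * a * g⁻¹ * (d.nel g * a * (d.nel g)⁻¹)⁻¹ ∈ oc (pair H g) := by
  have ho := d.mul_nel_inv_mem g
  have := mul_mem ho ((mem_normalizer_iff.1 (d.le_normalizer_oc_pair g (d.nel_conj_mem g ha))
    _).1 (inv_mem ho))
  convert this using 1
  group

/-- Fusion in `H` is controlled by `N(H)`. -/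
theorem fusion {g a : G} (ha : a ∈ H) (hg : g * a * g⁻¹ ∈ H) :
    g * a * g⁻¹ = d.nel g * a * (d.nel g)⁻¹ :=
  mul_inv_eq_one.1 (d.eq_one_of_mem_oc (d.conj_mul_nel_mem g ha)
    (mul_mem hg (inv_mem (d.nel_conj_mem g ha))))

end Data

end Cfsg.Agent.ExtremelyClosed
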