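import Cfsg.Agent.Lib.ExtremelyClosed.Basic
import Cfsg.Agent.Lib.ZStar.Main
import Cfsg.Agent.Lib.ZStar.PrincipalConst
import Cfsg.Agent.Lib.Blocks.SecondMain
import Cfsg.Agent.Lib.Blocks.PPart
import Cfsg.Agent.Lib.Char.ClassSum
import Cfsg.Agent.Lib.Exceptional.ClassPairs

/-!
# Extremely closed abelian 2-subgroups: the characters of the principal block

In a minimal configuration the values of a character of the principal 2-block on `H \ {1}` are
constant as soon as it is nonzero on average over `H`; this yields a fixed involution unless all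
nonidentity elements of `H` are conjugate.
-/

set_option linter.style.haveILetI false
set_option linter.unusedSectionVars false

namespace Cfsg.Agent.ExtremelyClosed

open Cfsg Subgroup
open scoped ComplexConjugate Classical Pointwise

universe u

variable {G : Type u} [Group G] [Finite G] {H : Subgroup G}

/-- A minimal configuration. -/
structure MinCfg (H : Subgroup G) : Prop extends Data H where
  core : oddCore G = ⊥
  nn : ¬ H.Normal
  nc : ∀ a ∈ H, orderOf a = 2 → a ∉ Subgroup.center G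

theorem mem_centralizer_of_mem (hab : IsMulCommutative H) {a : G} (ha : a ∈ H) :
    H ≤ centralizer ({a} : Set G) := fun b hb =>
  mem_centralizer_singleton_iff.mpr (commute_of_mem hab hb ha)

theorem exists_orderOf_two {K : Subgroup G} (hK : IsPGroup 2 K) (h : K ≠ ⊥) :
    ∃ a ∈ K, orderOf a = 2 := by
  haveI : Fact (Nat.Prime 2) := ⟨Nat.prime_two⟩
  obtain ⟨k, hk⟩ := IsPGroup.iff_card.mp hK
  rcases k with _ | k
  · exact absurd (Subgroup.card_eq_one.mp (by simpa using hk)) h
  · obtain ⟨a, ha⟩ := exists_prime_orderOf_dvd_card' 2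
      (show 2 ∣ Nat.card K by rw [hk, pow_succ]; exact dvd_mul_left _ _)
    exact ⟨a, a.2, by rw [Subgroup.orderOf_coe, ha]⟩

namespace MinCfg

variable (c : MinCfg H)
include c

theorem normal_eq_top {N : Subgroup G} [N.Normal] (hHN : H ≤ N) : N = ⊤ := by
  by_contra hN
  have hoc : oc N = ⊥ := by
    rw [oc, show oddCore N = pPrimeCore 2 N from rfl, PCore.pPrimeCore_eq_bot_of_normal N c.core,
      Subgroup.map_bot]
  have hle : N ≤ normalizer (H : Set G) := fun x hx => by
    obtain ⟨n, hn, o, ho, rfl⟩ := c.ind N hN hHN x hx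
    rw [hoc, mem_bot] at ho
    rwa [ho, mul_one]
  haveI : (H.subgroupOf N).Normal :=
    Coprime.normal_subgroupOf_of_le_normalizer hle
  have h1 : H.subgroupOf N ≤ pCore 2 N :=
    PCore.le_pCore (c.two.comap_of_injective N.subtype N.subtype_injective)
  have h2 : H ≤ pCore 2 G := fun x hx => by
    have : x ∈ (pCore 2 N).map N.subtype := ⟨⟨x, hHN hx⟩, h1 hx, rfl⟩
    rw [PCore.map_pCore_subtype_of_normal] at this
    exact this.1
  refine c.nn ⟨fun a ha g => ?_⟩
  refine (mem_normalizer_iff.1 (pair_eq_self c.cl (PCore.isPGroup_pCore.to_le (sup_le h2 ?_))) a).1 ha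
  rintro _ ⟨b, hb, rfl⟩
  exact (inferInstance : (pCore 2 G).Normal).conj_mem b (h2 hb) g

theorem ne_bot : H ≠ ⊥ := fun h => c.nn (h ▸ inferInstance)

theorem centralizer_ne_top {a : G} (ha : a ∈ H) (ha1 : a ≠ 1) :
    centralizer ({a} : Set G) ≠ ⊤ := by
  intro h
  obtain ⟨b, hb, hb2⟩ := exists_orderOf_two (K := zpowers a)
    (c.two.to_le (zpowers_le.mpr ha)) (fun h0 => ha1 (zpowers_eq_bot.mp h0))
  refine c.nc b (zpowers_le.mpr ha hb) hb2 ?_
  obtain ⟨i, rfl⟩ := mem_zpowers_iff.mp hb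
  exact zpow_mem (mem_center_iff.mpr fun g =>
    mem_centralizer_singleton_iff.mp (show g ∈ centralizer ({a} : Set G) from h ▸ mem_top g)) i

/-- `C_R(a)` is in the odd core of `C(a)`. -/
theorem mem_theta {g a u : G} (ha : a ∈ H) (ha1 : a ≠ 1) (hu : u ∈ oc (pair H g))
    (hua : Commute u a) : u ∈ centralizerPPrimeCore 2 a := by
  set X := centralizer ({a} : Set G)
  have hHX : H ≤ X := mem_centralizer_of_mem c.ab ha
  obtain ⟨n, hn, o, ho, e⟩ :=
    c.ind X (c.centralizer_ne_top ha ha1) hHX u (mem_centralizer_singleton_iff.mpr hua)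
  have hHo : H ≤ normalizer (oc X : Set G) := hHX.trans (le_normalizer_oc X)
  show u ∈ oc X
  refine c.mem_of_commutator_mem hu hHo (odd_card_oc X) fun b hb => ?_
  have h1 : n⁻¹ * b * n ∈ H := by
    have := (mem_normalizer_iff.1 (inv_mem hn) b).1 hb
    rwa [inv_inv] at this
  subst e
  have h2 : o⁻¹ * (n⁻¹ * b * n) * o * b⁻¹ ∈ H ⊔ oc X :=
    mul_mem (mul_mem (mul_mem (mem_sup_right (inv_mem ho)) (mem_sup_left h1)) (mem_sup_right ho))
      (mem_sup_left (inv_mem hb))
  convert h2 using 1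
  group

variable {M : Ideal AlgInt} (hM : IsPModular 2 M)
include hM

/-- Characters of the principal block are constant on `R_g a`. -/
theorem const {χ : IrrCharacter G} (hχ : χ ∈ principalBlock M G) {g a r : G} (ha : a ∈ H)
    (ha1 : a ≠ 1) (hr : r ∈ oc (pair H g)) : χ.1 (r * a) = χ.1 a := by
  haveI : Fact (Nat.Prime 2) := ⟨Nat.prime_two⟩
  set R := oc (pair H g)
  have hHR : H ≤ normalizer (R : Set G) := c.le_normalizer_oc_pair g
  have hz : r * a ∈ H ⊔ R := mul_mem (mem_sup_right hr) (mem_sup_left ha)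
  obtain ⟨x, hx⟩ := Blocks.exists_isPPart (p := 2) (r * a)
  have hxz : x ∈ H ⊔ R := zpowers_le.mpr hz (Blocks.IsPPart.mem_zpowers hx)
  obtain ⟨y, hxy, hcomm, ⟨k, hk⟩, hy⟩ := hx
  have hxp : IsPGroup 2 (zpowers x) := IsPGroup.of_card (n := k) (by rw [Nat.card_zpowers, hk])
  obtain ⟨o, ho, hle⟩ := Coprime.exists_le_conj_of_le_sup (A := H) (N := R) (B := zpowers x) hHR
    (zpowers_le.mpr hxz) (coprime_card c.two (odd_card_oc _)) (coprime_card hxp (odd_card_oc _))
    (Or.inl (isSolvable_of_comm c.ab))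
  have hd : o⁻¹ * x * o ∈ H := by
    have := hle (mem_zpowers x)
    rw [Coprime.mem_conj_smul_iff] at this
    simpa using this
  have hyR : y ∈ R := by
    refine mem_of_odd_of_mem_sup c.two hHR (odd_card_oc _) ?_
      (Nat.not_even_iff_odd.mp fun he => hy he.two_dvd)
    have := mul_mem (inv_mem hxz) hz
    rwa [← hxy, inv_mul_cancel_left] at this
  have hy' : o⁻¹ * y * o ∈ R := mul_mem (mul_mem (inv_mem ho) hyR) ho
  have hxa : o⁻¹ * x * o = a := by
    refine inv_mul_eq_one.1 (c.eq_one_of_mem_oc (g := g) ?_ (mul_mem (inv_mem hd) ha))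
    have h1 : a⁻¹ * (o⁻¹ * r) * a ∈ R := by
      have := (mem_normalizer_iff.1 (hHR (inv_mem ha)) _).1 (mul_mem (inv_mem ho) hr)
      rwa [inv_inv] at this
    have h2 := inv_mem (mul_mem h1 (mul_mem (inv_mem hyR) ho))
    convert h2 using 1
    rw [show x = r * a * y⁻¹ from eq_mul_inv_of_mul_eq hxy]
    group
  have hca : Commute (o⁻¹ * y * o) a := by
    rw [← hxa]
    show o⁻¹ * y * o * (o⁻¹ * x * o) = o⁻¹ * x * o * (o⁻¹ * y * o)
    calc o⁻¹ * y * o * (o⁻¹ * x * o) = o⁻¹ * (y * x) * o := by group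
      _ = o⁻¹ * (x * y) * o := by rw [hcomm.eq]
      _ = _ := by group
  have hv := c.mem_theta ha ha1 hy' hca
  obtain ⟨i, hi⟩ := IsPGroup.iff_orderOf.mp c.two ⟨a, ha⟩
  rw [Subgroup.orderOf_mk] at hi
  rw [← ZStar.apply_mul_pPrimeCore hM ⟨i, hi⟩ hv hχ,
    ← CharInt.char_conj_apply (Char.irr_isCharacter χ) (a * (o⁻¹ * y * o)) o]
  congr 1
  rw [← hxy, ← hxa]
  group

omit hM in
theorem false_of_fixed {a : G} (ha : a ∈ H) (ha2 : orderOf a = 2)
    (hfix : ∀ b ∈ H, IsConj a b → b = a) : False := by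
  have hiso : IsIsolatedInvolution a := by
    refine ⟨ha2, fun g hc => ?_⟩
    set n := c.nel g
    have hna : n * a * n⁻¹ = a := hfix _ (c.nel_conj_mem g ha) (isConj_iff.2 ⟨n, rfl⟩)
    have hw := c.conj_mul_nel_mem g ha
    rw [hna] at hw
    have h2 : a * a = 1 := by
      have := pow_orderOf_eq_one a
      rwa [ha2, pow_two] at this
    have hw2 : (g * a * g⁻¹ * a⁻¹) ^ 2 = 1 := by
      rw [(hc.symm.inv_right).mul_pow, inv_pow, pow_two, pow_two, h2, inv_one, mul_one,
        show g * a * g⁻¹ * (g * a * g⁻¹) = g * (a * a) * g⁻¹ by group, h2]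
      group
    exact mul_inv_eq_one.1 (orderOf_eq_one_iff.mp
      (Nat.eq_one_of_dvd_coprimes (odd_orderOf_of_mem (odd_card_oc _) hw).coprime_two_left
        (orderOf_dvd_of_pow_eq_one hw2) dvd_rfl))
  exact c.nc a ha ha2
    (ZStar.mem_center_of_oddCore_eq_bot (ZStar.inZStar hiso) c.core)

omit hM in
theorem trivial_of_le_kernel {χ : IrrCharacter G} (h : ∀ a ∈ H, χ.1 a = χ.1 1) :
    χ = Char.trivialChar G := by
  refine ZStar.eq_trivialChar_of_const fun g => ?_
  have hc := Char.irr_isCharacter χ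
  haveI := CharInt.charKernel_normal hc
  have := c.normal_eq_top (N := CharInt.charKernel hc) fun a ha =>
    (CharInt.mem_charKernel hc).mpr (h a ha)
  exact (CharInt.mem_charKernel hc).mp (this ▸ mem_top g)

end MinCfg

end Cfsg.Agent.ExtremelyClosed
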