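import Cfsg.Agent.Lib.ExtremelyClosed.AllConj

/-!
# An extremely closed abelian 2-subgroup has `G = N(H) O(G)`
-/

set_option linter.style.haveILetI false
set_option linter.unusedSectionVars false

namespace Cfsg.Agent.ExtremelyClosed

open Cfsg Subgroup
open scoped Classical Pointwise

universe u

variable {G : Type u} [Group G] [Finite G] {H : Subgroup G}

theorem isExtremelyClosed_subgroupOf (hcl : IsExtremelyClosed H) {X : Subgroup G} (hHX : H ≤ X) :
    IsExtremelyClosed (H.subgroupOf X) := by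
  intro g
  refine le_antisymm (fun k hk => mem_subgroupOf.mpr ((hcl (g : G)).le ⟨?_, ?_⟩))
    (le_inf le_sup_left le_normalizer)
  · have h : (H.subgroupOf X ⊔ (H.subgroupOf X).map (MulAut.conj g).toMonoidHom).map X.subtype ≤
        pair H (g : G) := by
      rw [Subgroup.map_sup, sup_le_iff]
      refine ⟨?_, ?_⟩
      · rintro _ ⟨a, ha, rfl⟩; exact le_pair _ (mem_subgroupOf.mp ha)
      · rintro _ ⟨_, ⟨a, ha, rfl⟩, rfl⟩; exact conj_mem_pair (mem_subgroupOf.mp ha)
    exact h ⟨k, hk.1, rfl⟩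
  · refine mem_normalizer_of_map_le ?_
    rintro _ ⟨a, ha, rfl⟩
    exact mem_subgroupOf.mp ((mem_normalizer_iff.1 hk.2 ⟨a, hHX ha⟩).1 (mem_subgroupOf.mpr ha))

theorem isExtremelyClosed_map {G' : Type u} [Group G'] (f : G →* G') (hf : Function.Surjective f)
    (h : ∀ g k, k ∈ pair H g → f k ∈ normalizer (H.map f : Set G') → f k ∈ H.map f) :
    IsExtremelyClosed (H.map f) := by
  intro g'
  obtain ⟨g, rfl⟩ := hf g'
  refine le_antisymm ?_ (le_inf le_sup_left le_normalizer)
  rintro x ⟨hx, hn⟩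
  have e : (H.map f).map (MulAut.conj (f g)).toMonoidHom =
      (H.map (MulAut.conj g).toMonoidHom).map f := by
    rw [Subgroup.map_map, Subgroup.map_map]
    congr 1
    ext a
    simp
  rw [e, ← Subgroup.map_sup] at hx
  obtain ⟨k, hk, rfl⟩ := hx
  exact h g k hk hn

/-- The conclusion, for groups of smaller order. -/
def Below (n : ℕ) : Prop :=
  ∀ (G : Type u) [Group G] [Finite G], Nat.card G < n → ∀ H : Subgroup G, IsPGroup 2 H →
    IsMulCommutative H → IsExtremelyClosed H → normalizer (H : Set G) ⊔ oddCore G = ⊤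

theorem isMulCommutative_map {G' : Type u} [Group G'] (f : G →* G') (hab : IsMulCommutative H) :
    IsMulCommutative (H.map f) := by
  refine ⟨⟨fun a b => ?_⟩⟩
  obtain ⟨_, x, hx, rfl⟩ := a
  obtain ⟨_, y, hy, rfl⟩ := b
  exact Subtype.ext (show f x * f y = f y * f x by
    rw [← map_mul, ← map_mul, commute_of_mem hab hx hy])

theorem data_of_below (hB : Below.{u} (Nat.card G)) (hH : IsPGroup 2 H) (hab : IsMulCommutative H)
    (hcl : IsExtremelyClosed H) (hp : ∀ g, pair H g ≠ ⊤) : Data H := by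
  refine ⟨hH, hab, hcl, hp, fun X hX hHX x hx => ?_⟩
  haveI := hab
  have h := hB X (lt_of_le_of_ne (card_le_card_group X) fun h => hX ((card_eq_iff_eq_top _).mp h))
    (H.subgroupOf X) (hH.comap_of_injective X.subtype X.subtype_injective)
    ⟨⟨fun a b => Subtype.ext (Subtype.ext (commute_of_mem hab a.2 b.2))⟩⟩
    (isExtremelyClosed_subgroupOf hcl hHX)
  obtain ⟨n, hn, o, ho, e⟩ := Subgroup.mem_sup_of_normal_right.mp
    (show (⟨x, hx⟩ : X) ∈ normalizer ((H.subgroupOf X : Subgroup X) : Set X) ⊔ oddCore X from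
      h ▸ mem_top _)
  refine ⟨n, mem_normalizer_of_map_le ?_, o, ⟨o, ho, rfl⟩, (congrArg Subtype.val e).symm⟩
  rintro _ ⟨a, ha, rfl⟩
  exact mem_subgroupOf.mp ((mem_normalizer_iff.1 hn ⟨a, hHX ha⟩).1 (mem_subgroupOf.mpr ha))

theorem sup_oddCore_eq_top_step (d : Data H) (hB : Below.{u} (Nat.card G))
    (hO : oddCore G ≠ ⊥) : normalizer (H : Set G) ⊔ oddCore G = ⊤ := by
  haveI : Fact (Nat.Prime 2) := ⟨Nat.prime_two⟩
  set O := oddCore G
  set f := QuotientGroup.mk' O
  have hodd : Odd (Nat.card O) := PCore.odd_card_oddCore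
  have hHO : H ≤ normalizer (O : Set G) := by rw [Subgroup.normalizer_eq_top]; exact le_top
  have hcm : (H.map f).comap f = H ⊔ O := by
    rw [Subgroup.comap_map_eq, QuotientGroup.ker_mk']
  have hcl' : IsExtremelyClosed (H.map f) := by
    refine isExtremelyClosed_map f (QuotientGroup.mk'_surjective O) fun g k hk hn => ?_
    obtain ⟨a, ha, r, hr, rfl⟩ := d.exists_mul_oc hk
    have hr' : r ∈ O := d.mem_of_commutator_mem hr hHO hodd fun b hb => by
      have h1 : f r ∈ normalizer (H.map f : Set (G ⧸ O)) := by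
        have := mul_mem (inv_mem (le_normalizer (mem_map_of_mem f ha))) hn
        rwa [map_mul, inv_mul_cancel_left] at this
      have h2 : f (r⁻¹ * b * r * b⁻¹) ∈ H.map f := by
        rw [map_mul, map_mul, map_mul, map_inv, map_inv]
        refine mul_mem ?_ (inv_mem (mem_map_of_mem f hb))
        have h3 := (mem_normalizer_iff.1 (inv_mem h1) _).1 (mem_map_of_mem f hb)
        rwa [inv_inv] at h3
      exact hcm.le h2
    rw [map_mul, show f r = 1 from (QuotientGroup.eq_one_iff r).mpr hr', mul_one]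
    exact mem_map_of_mem f ha
  have hlt : Nat.card (G ⧸ O) < Nat.card G := by
    rw [O.card_eq_card_quotient_mul_card_subgroup]
    exact lt_mul_of_one_lt_right Nat.card_pos
      (lt_of_le_of_ne Nat.card_pos fun h => hO (Subgroup.card_eq_one.mp h.symm))
  have h := hB (G ⧸ O) hlt (H.map f) (d.two.map f) (isMulCommutative_map f d.ab) hcl'
  have hO' : oddCore (G ⧸ O) = ⊥ := PCore.pPrimeCore_quotient_self_eq_bot
  rw [hO', sup_bot_eq] at h
  rw [eq_top_iff]
  intro g _
  have hle : H.map (MulAut.conj g).toMonoidHom ≤ H ⊔ O := by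
    rintro _ ⟨a, ha, rfl⟩
    refine hcm.le ?_
    rw [mem_comap]
    show f (g * a * g⁻¹) ∈ H.map f
    rw [map_mul, map_mul, map_inv]
    exact (mem_normalizer_iff.1 (show f g ∈ normalizer (H.map f : Set (G ⧸ O)) from h ▸ mem_top _)
      _).1 (mem_map_of_mem f ha)
  obtain ⟨o, ho, e⟩ := Coprime.exists_conj_eq_of_le_sup hHO hle
    (Subgroup.card_map_of_injective (MulEquiv.injective _)) (coprime_card d.two hodd)
    (Or.inr (isSolvable_of_comm d.ab))
  have hn : o⁻¹ * g ∈ normalizer (H : Set G) := by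
    refine mem_normalizer_of_map_le ?_
    rintro _ ⟨a, ha, rfl⟩
    have h1 : MulAut.conj g a ∈ MulAut.conj o • H := e.ge ⟨a, ha, rfl⟩
    rw [Coprime.mem_conj_smul_iff] at h1
    show (o⁻¹ * g) * a * (o⁻¹ * g)⁻¹ ∈ H
    convert h1 using 1
    rw [MulAut.conj_apply]
    group
  simpa using mul_mem (mem_sup_right ho : o ∈ normalizer (H : Set G) ⊔ O) (mem_sup_left hn)

theorem not_mem_center (d : Data H) (hB : Below.{u} (Nat.card G)) (hO : oddCore G = ⊥)
    (hnn : ¬ H.Normal) {a : G} (ha : a ∈ H) (ha2 : orderOf a = 2) : a ∉ Subgroup.center G := by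
  intro hac
  haveI : Fact (Nat.Prime 2) := ⟨Nat.prime_two⟩
  set Z := zpowers a with hZ
  have hZc : Z ≤ Subgroup.center G := zpowers_le.mpr hac
  haveI : Z.Normal := ⟨fun b hb g => by
    rw [mem_center_iff.mp (hZc hb) g, mul_inv_cancel_right]; exact hb⟩
  have hZcard : Nat.card Z = 2 := by rw [hZ, Nat.card_zpowers, ha2]
  set f := QuotientGroup.mk' Z
  have hcm : (H.map f).comap f = H := by
    rw [Subgroup.comap_map_eq, QuotientGroup.ker_mk', sup_eq_left.mpr (zpowers_le.mpr ha)]
  have hcl' : IsExtremelyClosed (H.map f) := by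
    refine isExtremelyClosed_map f (QuotientGroup.mk'_surjective Z) fun g k hk hn => ?_
    refine mem_map_of_mem f (d.inf_normalizer hk (mem_normalizer_of_map_le ?_))
    rintro _ ⟨b, hb, rfl⟩
    refine hcm.le ?_
    rw [mem_comap]
    show f (k * b * k⁻¹) ∈ H.map f
    rw [map_mul, map_mul, map_inv]
    exact (mem_normalizer_iff.1 hn _).1 (mem_map_of_mem f hb)
  have hlt : Nat.card (G ⧸ Z) < Nat.card G := by
    rw [Z.card_eq_card_quotient_mul_card_subgroup, hZcard]
    exact lt_mul_of_one_lt_right Nat.card_pos one_lt_two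
  have h := hB (G ⧸ Z) hlt (H.map f) (d.two.map f) (isMulCommutative_map f d.ab) hcl'
  set P := (oddCore (G ⧸ Z)).comap f
  have hZP : Z ≤ P := fun z hz => by
    rw [mem_comap, show f z = 1 from (QuotientGroup.eq_one_iff z).mpr hz]
    exact one_mem _
  have hbot : oddCore (G ⧸ Z) = ⊥ := by
    set Z' := Z.subgroupOf P
    have hZ'card : Nat.card Z' = 2 := by
      rw [show Nat.card Z' = Nat.card Z from Nat.card_congr (subgroupOfEquivOfLe hZP).toEquiv, hZcard]
    let φ : P →* oddCore (G ⧸ Z) := (f.comp P.subtype).codRestrict _ fun x => x.2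
    have hφs : Function.Surjective φ := by
      rintro ⟨y, hy⟩
      obtain ⟨y, rfl⟩ := QuotientGroup.mk'_surjective Z y
      exact ⟨⟨y, hy⟩, rfl⟩
    have hker : φ.ker = Z' := by
      ext x
      rw [MonoidHom.mem_ker, Subtype.ext_iff, mem_subgroupOf]
      exact QuotientGroup.eq_one_iff _
    have hidx : Z'.index = Nat.card (oddCore (G ⧸ Z)) := by
      rw [← hker, index_ker, MonoidHom.range_eq_top.mpr hφs, card_top]
    have hodd : Odd Z'.index := hidx ▸ PCore.odd_card_oddCore
    obtain ⟨K, hK⟩ := exists_right_complement'_of_coprime (N := Z')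
      (hZ'card ▸ hodd.coprime_two_left)
    haveI : K.Normal := by
      rw [← normalizer_eq_top_iff, eq_top_iff, ← hK.sup_eq_top, sup_le_iff]
      refine ⟨fun z hz => mem_normalizer_iff.mpr fun b => ?_, le_normalizer⟩
      have hzb : z * b = b * z := Subtype.ext
        (mem_center_iff.mp (hZc (mem_subgroupOf.mp hz)) (b : G)).symm
      rw [hzb, mul_inv_cancel_right]
    have hKodd : Odd (Nat.card K) := by rw [← hK.symm.index_eq_card]; exact hodd
    have hKbot : K = ⊥ := le_bot_iff.mp ((PCore.le_oddCore hKodd).trans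
      (PCore.pPrimeCore_eq_bot_of_normal P hO).le)
    rw [← Subgroup.card_eq_one, ← hidx, hK.symm.index_eq_card, hKbot, Subgroup.card_bot]
  rw [hbot, sup_bot_eq] at h
  refine hnn ⟨fun b hb g => hcm.le ?_⟩
  rw [mem_comap, map_mul, map_mul, map_inv]
  exact (mem_normalizer_iff.1 (show f g ∈ normalizer (H.map f : Set (G ⧸ Z)) from h ▸ mem_top _)
    _).1 (mem_map_of_mem f hb)

theorem MinCfg.false (c : MinCfg H) : False := by
  haveI := Fintype.ofFinite H
  obtain ⟨M, hM⟩ := ZStar.exists_isPModular_two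
  by_cases h : ∀ a ∈ H, a ≠ 1 → ∀ b ∈ H, b ≠ 1 → IsConj a b
  · exact c.false_of_forall_isConj hM h
  · push Not at h
    obtain ⟨a, ha, ha1, b, hb, hb1, hne⟩ := h
    exact c.false_of_not_isConj hM ha ha1 hb hb1 hne

theorem main : ∀ (n : ℕ) (G : Type u) [Group G] [Finite G], Nat.card G = n → ∀ H : Subgroup G,
    IsPGroup 2 H → IsMulCommutative H → IsExtremelyClosed H →
      normalizer (H : Set G) ⊔ oddCore G = ⊤ := by
  intro n
  induction n using Nat.strong_induction_on with
  | _ n ih =>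
  intro G _ _ hn H hH hab hcl
  have hB : Below.{u} (Nat.card G) := fun G' _ _ hlt => ih _ (hn ▸ hlt) G' rfl
  by_cases hp : ∃ g, pair H g = ⊤
  · obtain ⟨g, hg⟩ := hp
    refine sup_oddCore_eq_top_of_normalizer_eq hH hab ?_
    have : pair H g ⊓ normalizer (H : Set G) = H := hcl g
    rwa [hg, top_inf_eq] at this
  push Not at hp
  have d := data_of_below hB hH hab hcl hp
  by_cases hO : oddCore G = ⊥
  · by_contra hne
    have hnn : ¬ H.Normal := fun hn' =>
      hne (by haveI := hn'; rw [Subgroup.normalizer_eq_top, top_sup_eq])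
    exact MinCfg.false ⟨d, hO, hnn, fun a ha ha2 => not_mem_center d hB hO hnn ha ha2⟩
  · exact sup_oddCore_eq_top_step d hB hO

theorem normalizer_sup_oddCore_eq_top (H : Subgroup G) (hH : IsPGroup 2 H)
    (hab : IsMulCommutative H) (hcl : IsExtremelyClosed H) :
    normalizer (H : Set G) ⊔ oddCore G = ⊤ :=
  main _ G rfl H hH hab hcl

end Cfsg.Agent.ExtremelyClosed
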