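import Cfsg.Agent.Lib.ExtremelyClosed.Sums

/-!
# Extremely closed abelian 2-subgroups: not all nonidentity elements conjugate

Then a nontrivial character with nonzero average over `H` vanishes on `H \ {1}`, and the column
sums force a `N(H)`-orbit of odd size dividing a power of two.
-/

set_option linter.style.haveILetI false
set_option linter.unusedSectionVars false

namespace Cfsg.Agent.ExtremelyClosed

open Cfsg Subgroup
open scoped ComplexConjugate Classical Pointwise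

universe u

variable {G : Type u} [Group G] [Finite G] {H : Subgroup G}

/-- A set of conjugates of an element centralized by a Sylow subgroup of `N` is of odd size. -/
theorem odd_card_orbit {N : Subgroup G} {T : Sylow 2 G} (hTN : (T : Subgroup G) ≤ N) {a : G}
    (hTa : (T : Subgroup G) ≤ centralizer ({a} : Set G)) {S : Finset G}
    (hS : ∀ b, b ∈ S ↔ ∃ n ∈ N, n * a * n⁻¹ = b) : Odd S.card := by
  haveI : Fact (Nat.Prime 2) := ⟨Nat.prime_two⟩
  letI act : MulAction N G := MulAction.compHom G (MulAut.conj.comp N.subtype)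
  have horb : MulAction.orbit N a = (S : Set G) := by
    ext b
    rw [MulAction.mem_orbit_iff, Finset.mem_coe, hS]
    constructor
    · rintro ⟨n, rfl⟩; exact ⟨n, n.2, rfl⟩
    · rintro ⟨n, hn, rfl⟩; exact ⟨⟨n, hn⟩, rfl⟩
  have hle : (T : Subgroup G).subgroupOf N ≤ MulAction.stabilizer N a := by
    intro n hn
    rw [MulAction.mem_stabilizer_iff]
    show (n : G) * a * (n : G)⁻¹ = a
    rw [mem_centralizer_singleton_iff.mp (hTa (mem_subgroupOf.mp hn)), mul_inv_cancel_right]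
  have h1 := Subgroup.index_dvd_of_le hle
  rw [MulAction.index_stabilizer, horb, Set.ncard_coe_finset] at h1
  have h2 := h1.trans (Subgroup.relIndex_dvd_index_of_le hTN)
  rw [← Nat.not_even_iff_odd]
  exact fun he => T.not_dvd_index (he.two_dvd.trans h2)

namespace MinCfg

variable (c : MinCfg H)
include c

theorem exists_involution :
    ∃ a ∈ H, orderOf a = 2 ∧ ∃ T : Sylow 2 G, (T : Subgroup G) ≤ normalizer (H : Set G) ∧
      (T : Subgroup G) ≤ centralizer ({a} : Set G) := by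
  haveI : Fact (Nat.Prime 2) := ⟨Nat.prime_two⟩
  obtain ⟨T, hT⟩ := c.two.exists_le_sylow
  have hTN := le_normalizer_of_isPGroup c.cl T.2 hT
  haveI : (H.subgroupOf (T : Subgroup G)).Normal :=
    Coprime.normal_subgroupOf_of_le_normalizer hTN
  have hne : H.subgroupOf (T : Subgroup G) ≠ ⊥ := fun h => c.ne_bot <| by
    rw [← Subgroup.map_subgroupOf_eq_of_le hT, h, Subgroup.map_bot]
  obtain ⟨a, ha, ha2⟩ := exists_orderOf_two
    (T.2.to_subgroup (H.subgroupOf (T : Subgroup G) ⊓ Subgroup.center (T : Subgroup G)))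
    (PGroup.inf_center_ne_bot T.2 _ hne)
  refine ⟨a, ha.1, by rw [Subgroup.orderOf_coe, ha2], T, hTN, fun x hx => ?_⟩
  exact mem_centralizer_singleton_iff.mpr
    (congrArg Subtype.val (mem_center_iff.mp ha.2 ⟨x, hx⟩))

variable [Fintype H] {M : Ideal AlgInt} (hM : IsPModular 2 M)
include hM

theorem vanish {a₀ b₀ : G} (ha₀ : a₀ ∈ H) (ha₀1 : a₀ ≠ 1) (hb₀ : b₀ ∈ H) (hb₀1 : b₀ ≠ 1)
    (hne : ¬ IsConj a₀ b₀) {χ : IrrCharacter G} (hχ : χ ∈ bl M G)
    (hS : sumH H χ ≠ 0) (htriv : χ ≠ Char.trivialChar G) {d : G} (hd : d ∈ H) (hd1 : d ≠ 1) :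
    χ.1 d = 0 := by
  haveI := Fintype.ofFinite G
  rw [c.eq_of_sumH_ne_zero hM hχ hS hd hd1 ha₀ ha₀1]
  have hb' : b₀⁻¹ ∈ H := inv_mem hb₀
  have hconst : ∀ g : G, χ.1 (g * a₀ * g⁻¹ * b₀⁻¹) = χ.1 a₀ := by
    intro g
    set e := c.nel g * a₀ * (c.nel g)⁻¹
    have he1 : e * b₀⁻¹ ≠ 1 := fun h =>
      hne (isConj_iff.2 ⟨c.nel g, mul_inv_eq_one.1 h⟩)
    have hmem : e * b₀⁻¹ ∈ H := mul_mem (c.nel_conj_mem g ha₀) hb'
    rw [show g * a₀ * g⁻¹ * b₀⁻¹ = g * a₀ * g⁻¹ * e⁻¹ * (e * b₀⁻¹) by group,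
      c.const hM (mem_bl.mp hχ) hmem he1 (c.conj_mul_nel_mem g ha₀),
      c.eq_of_sumH_ne_zero hM hχ hS hmem he1 ha₀ ha₀1]
  have h1 := Char.sum_irr_conj_mul χ.2 a₀ b₀⁻¹
  rw [Finset.sum_congr rfl (fun g _ => hconst g), Finset.sum_const, Finset.card_univ, nsmul_eq_mul,
    ← Nat.card_eq_fintype_card,
    c.eq_of_sumH_ne_zero hM hχ hS hb' (inv_ne_one.mpr hb₀1) ha₀ ha₀1] at h1
  by_contra h0
  have h2 : χ.1 a₀ = χ.1 1 :=
    mul_left_cancel₀ (mul_ne_zero Char.card_ne_zero h0) (by linear_combination -h1)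
  refine htriv (c.trivial_of_le_kernel fun x hx => ?_)
  by_cases hx1 : x = 1
  · rw [hx1]
  · rw [c.eq_of_sumH_ne_zero hM hχ hS hx hx1 ha₀ ha₀1, h2]

/-- Not all nonidentity elements of `H` conjugate: contradiction. -/
theorem false_of_not_isConj {a₀ b₀ : G} (ha₀ : a₀ ∈ H) (ha₀1 : a₀ ≠ 1) (hb₀ : b₀ ∈ H)
    (hb₀1 : b₀ ≠ 1) (hne : ¬ IsConj a₀ b₀) : False := by
  haveI : Fact (Nat.Prime 2) := ⟨Nat.prime_two⟩
  haveI := hM.2.1
  obtain ⟨a, ha, ha2, T, hTN, hTa⟩ := c.exists_involution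
  have ha1 : a ≠ 1 := fun h => by simp [h] at ha2
  have haa : a * a = 1 := by
    have := pow_orderOf_eq_one a
    rwa [ha2, pow_two] at this
  set Ω : Finset H := Finset.univ.filter fun b : H => IsConj a b
  choose z hz using fun χ : IrrCharacter G =>
    Exceptional.exists_int_apply_invol (Char.irr_isCharacter χ) haa
  set B : ℤ := ∑ χ ∈ bl M G, z χ * z χ
  have hB : ∑ χ ∈ bl M G, χ.1 a * conj (χ.1 a) = (B : ℂ) := by
    rw [Int.cast_sum]
    refine Finset.sum_congr rfl fun χ _ => ?_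
    rw [hz χ, Int.cast_mul]
    simp
  have h1 : ∑ χ ∈ bl M G, sumH H χ * conj (χ.1 a) = (Nat.card H : ℂ) := by
    rw [Finset.sum_eq_single (Char.trivialChar G)]
    · rw [sumH_trivial]; simp [Char.trivialChar]
    · intro χ hχ hne'
      by_cases hS : sumH H χ = 0
      · rw [hS, zero_mul]
      · rw [c.vanish hM ha₀ ha₀1 hb₀ hb₀1 hne hχ hS hne' ha ha1, map_zero, mul_zero]
    · exact fun h => absurd triv_mem_bl h
  have h2 : ∑ χ ∈ bl M G, sumH H χ * conj (χ.1 a) = (Ω.card : ℂ) * (B : ℂ) := by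
    simp only [sumH, Finset.sum_mul]
    rw [Finset.sum_comm, Finset.sum_congr rfl (fun b _ => c.column hM ha ha1 b.2),
      ← Finset.sum_filter, Finset.sum_const, nsmul_eq_mul, hB]
  have h3 : (Ω.card : ℤ) * B = (Nat.card H : ℤ) := by exact_mod_cast h2.symm.trans h1
  have hodd : Odd Ω.card := by
    rw [← Finset.card_map (Function.Embedding.subtype (· ∈ H))]
    refine odd_card_orbit hTN hTa fun b => ?_
    simp only [Finset.mem_map, Function.Embedding.coe_subtype, Ω, Finset.mem_filter,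
      Finset.mem_univ, true_and]
    constructor
    · rintro ⟨e, he, rfl⟩
      obtain ⟨g, hg⟩ := isConj_iff.1 he
      exact ⟨c.nel g, c.nel_mem g, (c.fusion ha (by rw [hg]; exact e.2)).symm.trans hg⟩
    · rintro ⟨n, hn, rfl⟩
      exact ⟨⟨_, (mem_normalizer_iff.1 hn a).1 ha⟩, isConj_iff.2 ⟨n, rfl⟩, rfl⟩
  have hdvd : Ω.card ∣ Nat.card H := Int.natCast_dvd_natCast.mp ⟨B, h3.symm⟩
  obtain ⟨k, hk⟩ := IsPGroup.iff_card.mp c.two
  have hone : Ω.card = 1 := Nat.eq_one_of_dvd_coprimes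
    (Nat.Coprime.pow_right k hodd.coprime_two_right) dvd_rfl (hk ▸ hdvd)
  obtain ⟨e, he⟩ := Finset.card_eq_one.mp hone
  refine c.false_of_fixed ha ha2 fun b hb hab => ?_
  have e1 : (⟨b, hb⟩ : H) ∈ Ω := Finset.mem_filter.mpr ⟨Finset.mem_univ _, hab⟩
  have e2 : (⟨a, ha⟩ : H) ∈ Ω := Finset.mem_filter.mpr ⟨Finset.mem_univ _, IsConj.refl a⟩
  rw [he, Finset.mem_singleton] at e1 e2
  exact congrArg Subtype.val (e1.trans e2.symm)

end MinCfg

end Cfsg.Agent.ExtremelyClosed
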