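import Cfsg.Agent.Lib.ExtremelyClosed.Chars

/-!
# Extremely closed abelian 2-subgroups: averaging over `H` in the principal block

`pairing` is the relation obtained from the class average over `H` and weak block orthogonality.
-/

set_option linter.style.haveILetI false
set_option linter.unusedSectionVars false

namespace Cfsg.Agent.ExtremelyClosed

open Cfsg Subgroup
open scoped ComplexConjugate Classical Pointwise

universe u

variable {G : Type u} [Group G] [Finite G] {H : Subgroup G}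

/-- The principal block as a finset. -/
noncomputable def bl (M : Ideal AlgInt) (G : Type u) [Group G] [Finite G] :
    Finset (IrrCharacter G) :=
  Finset.univ.filter (· ∈ principalBlock M G)

theorem mem_bl {M : Ideal AlgInt} {χ : IrrCharacter G} :
    χ ∈ bl M G ↔ χ ∈ principalBlock M G := by simp [bl]

theorem triv_mem_bl {M : Ideal AlgInt} [M.IsPrime] : Char.trivialChar G ∈ bl M G :=
  mem_bl.mpr (Blocks.mem_blockOf_self (Char.trivialChar G))

theorem not_isPRegular (hH : IsPGroup 2 H) {a : G} (ha : a ∈ H) (ha1 : a ≠ 1) :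
    ¬ IsPRegular 2 a := fun h =>
  ha1 (eq_one_of_odd hH ha (Nat.not_even_iff_odd.mp fun he => h he.two_dvd))

theorem isPPart_self (hH : IsPGroup 2 H) {a : G} (ha : a ∈ H) : IsPPart 2 a a := by
  haveI : Fact (Nat.Prime 2) := ⟨Nat.prime_two⟩
  obtain ⟨i, hi⟩ := IsPGroup.iff_orderOf.mp hH ⟨a, ha⟩
  rw [Subgroup.orderOf_mk] at hi
  exact ⟨1, mul_one a, Commute.one_right a, ⟨i, hi⟩, by simp⟩

variable [Fintype H]

/-- The sum of `χ` over `H`. -/
noncomputable def sumH (H : Subgroup G) [Fintype H] (χ : IrrCharacter G) : ℂ := ∑ b : H, χ.1 b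

theorem sumH_trivial : sumH H (Char.trivialChar G) = (Nat.card H : ℂ) := by
  simp [sumH, Char.trivialChar, Nat.card_eq_fintype_card]

/-- `S / χ(1)` is a nonnegative real. -/
theorem exists_weight (χ : IrrCharacter G) :
    ∃ r : ℝ, 0 ≤ r ∧ sumH H χ / χ.1 1 = (r : ℂ) := by
  obtain ⟨k, hk⟩ := Char.IsCharacter.exists_nat_classInner
    (Char.IsCharacter.restrict (Char.irr_isCharacter χ) H) (Char.isCharacter_one (G := H))
  have h : sumH H χ = ((Nat.card H * k : ℕ) : ℂ) := by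
    rw [Nat.cast_mul, ← hk, classInner]
    simp only [map_one, mul_one]
    rw [← mul_assoc, mul_inv_cancel₀ (Nat.cast_ne_zero.2 Nat.card_pos.ne'), one_mul, sumH]
  refine ⟨((Nat.card H * k : ℕ) : ℝ) / (Char.degree χ : ℕ), by positivity, ?_⟩
  rw [h, Char.apply_one_eq_degree]
  push_cast
  rfl

theorem conj_sumH (χ : IrrCharacter G) : conj (sumH H χ) = sumH H χ := by
  rw [sumH, map_sum]
  refine (Fintype.sum_equiv (Equiv.inv H) _ _ fun b => ?_)
  show conj (χ.1 b) = χ.1 ((b : G)⁻¹)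
  rw [CharInt.char_inv (Char.irr_isCharacter χ)]

namespace MinCfg

variable (c : MinCfg H) {M : Ideal AlgInt} (hM : IsPModular 2 M)
include c hM

/-- Averaging `χ(a) χ(b)` over `b ∈ H`. -/
theorem average {χ : IrrCharacter G} (hχ : χ ∈ bl M G) [Fintype G] {a : G} (ha : a ∈ H)
    (ha1 : a ≠ 1) :
    (Nat.card G : ℂ) * χ.1 a * sumH H χ = χ.1 1 * ((Nat.card G : ℂ) * (sumH H χ - χ.1 1) +
      ∑ g : G, χ.1 (g * a * g⁻¹ * (c.nel g * a * (c.nel g)⁻¹)⁻¹)) := by
  have hstep : ∀ g : G, ∑ b : H, χ.1 (g * a * g⁻¹ * b) = sumH H χ - χ.1 1 +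
      χ.1 (g * a * g⁻¹ * (c.nel g * a * (c.nel g)⁻¹)⁻¹) := by
    intro g
    set e : H := ⟨c.nel g * a * (c.nel g)⁻¹, c.nel_conj_mem g ha⟩ with he
    set z := g * a * g⁻¹ * (c.nel g * a * (c.nel g)⁻¹)⁻¹ with hz
    have h1 : ∑ b : H, χ.1 (g * a * g⁻¹ * b) =
        ∑ d : H, (χ.1 d + if d = 1 then χ.1 z - χ.1 1 else 0) := by
      refine Fintype.sum_equiv (Equiv.mulLeft e) _ _ fun b => ?_
      have hb : g * a * g⁻¹ * b = z * ((e * b : H) : G) := by
        rw [hz, Subgroup.coe_mul, he]; group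
      show _ = χ.1 ((e * b : H) : G) + if e * b = 1 then χ.1 z - χ.1 1 else 0
      rw [hb]
      split_ifs with h
      · rw [h, OneMemClass.coe_one, mul_one]; ring
      · rw [c.const hM (mem_bl.mp hχ) (g := g) (e * b).2 (fun h' => h (Subtype.ext h'))
          (c.conj_mul_nel_mem g ha), add_zero]
    rw [h1, Finset.sum_add_distrib, Finset.sum_ite_eq', if_pos (Finset.mem_univ _), sumH]
    ring
  have hsum : ∑ g : G, ∑ b : H, χ.1 1 * χ.1 (g * a * g⁻¹ * b) =
      (Nat.card G : ℂ) * χ.1 a * sumH H χ := by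
    rw [Finset.sum_comm, sumH, Finset.mul_sum]
    refine Finset.sum_congr rfl fun b _ => ?_
    rw [← Finset.mul_sum, Char.sum_irr_conj_mul χ.2]
  rw [← hsum]
  simp only [← Finset.mul_sum]
  rw [Finset.sum_congr rfl (fun g _ => hstep g), Finset.sum_add_distrib, Finset.sum_const,
    Finset.card_univ, nsmul_eq_mul, ← Nat.card_eq_fintype_card]

omit c in
theorem weak_orth {x y : G} (hx : IsPRegular 2 x) (hy : ¬ IsPRegular 2 y) :
    ∑ χ ∈ bl M G, χ.1 x * conj (χ.1 y) = 0 := by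
  haveI : Fact (Nat.Prime 2) := ⟨Nat.prime_two⟩
  haveI := hM.2.1
  rw [bl]
  convert Blocks.weak_orthogonality hM.2.2 (Blocks.isPBlock_principalBlock hM.2.2) hx hy

/-- `∑_B (S/χ(1)) χ(a) conj χ(d) = ∑_B S conj χ(d)` for `a, d ∈ H \ {1}`. -/
theorem pairing {a d : G} (ha : a ∈ H) (ha1 : a ≠ 1) (hd : d ∈ H) (hd1 : d ≠ 1) :
    ∑ χ ∈ bl M G, sumH H χ / χ.1 1 * χ.1 a * conj (χ.1 d) =
      ∑ χ ∈ bl M G, sumH H χ * conj (χ.1 d) := by
  haveI := Fintype.ofFinite G
  have hG : (Nat.card G : ℂ) ≠ 0 := Char.card_ne_zero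
  set z : G → G := fun g => g * a * g⁻¹ * (c.nel g * a * (c.nel g)⁻¹)⁻¹
  have hz : ∀ g, ∑ χ ∈ bl M G, χ.1 (z g) * conj (χ.1 d) = 0 := fun g =>
    weak_orth hM (fun h2 => Nat.not_even_iff_odd.mpr
      (odd_orderOf_of_mem (odd_card_oc _) (c.conj_mul_nel_mem g ha)) (even_iff_two_dvd.mpr h2))
      (not_isPRegular c.two hd hd1)
  have h1 : ∑ χ ∈ bl M G, χ.1 1 * conj (χ.1 d) = 0 :=
    weak_orth hM (by simp [IsPRegular]) (not_isPRegular c.two hd hd1)
  refine mul_left_cancel₀ hG ?_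
  rw [Finset.mul_sum, Finset.mul_sum]
  have hterm : ∀ χ ∈ bl M G, (Nat.card G : ℂ) * (sumH H χ / χ.1 1 * χ.1 a * conj (χ.1 d)) =
      (Nat.card G : ℂ) * (sumH H χ * conj (χ.1 d)) - (Nat.card G : ℂ) * (χ.1 1 * conj (χ.1 d)) +
        ∑ g : G, χ.1 (z g) * conj (χ.1 d) := by
    intro χ hχ
    have h := c.average hM hχ ha ha1
    have hne := Blocks.irr_one_ne_zero χ
    rw [← Finset.sum_mul]
    field_simp
    linear_combination conj (χ.1 d) * h
  rw [Finset.sum_congr rfl hterm, Finset.sum_add_distrib, Finset.sum_sub_distrib, ← Finset.mul_sum,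
    ← Finset.mul_sum, Finset.sum_comm, h1, mul_zero, sub_zero,
    Finset.sum_eq_zero (fun g _ => hz g), add_zero, Finset.mul_sum]

/-- If `S ≠ 0` then `χ` is constant on `H \ {1}`. -/
theorem eq_of_sumH_ne_zero {χ : IrrCharacter G} (hχ : χ ∈ bl M G) (hS : sumH H χ ≠ 0) {a b : G}
    (ha : a ∈ H) (ha1 : a ≠ 1) (hb : b ∈ H) (hb1 : b ≠ 1) : χ.1 a = χ.1 b := by
  choose r hr0 hr using fun χ : IrrCharacter G => exists_weight (H := H) χ
  have h0 : ∑ ψ ∈ bl M G, r ψ * Complex.normSq (ψ.1 a - ψ.1 b) = 0 := by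
    apply Complex.ofReal_injective
    rw [Complex.ofReal_sum, Complex.ofReal_zero]
    have he : ∀ ψ ∈ bl M G, ((r ψ * Complex.normSq (ψ.1 a - ψ.1 b) : ℝ) : ℂ) =
        (sumH H ψ / ψ.1 1 * ψ.1 a * conj (ψ.1 a) - sumH H ψ / ψ.1 1 * ψ.1 b * conj (ψ.1 a)) -
        (sumH H ψ / ψ.1 1 * ψ.1 a * conj (ψ.1 b) - sumH H ψ / ψ.1 1 * ψ.1 b * conj (ψ.1 b)) := by
      intro ψ _
      rw [Complex.ofReal_mul, Complex.normSq_eq_conj_mul_self, hr, map_sub]
      ring
    rw [Finset.sum_congr rfl he, Finset.sum_sub_distrib, Finset.sum_sub_distrib,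
      Finset.sum_sub_distrib, c.pairing hM ha ha1 ha ha1, c.pairing hM hb hb1 ha ha1,
      c.pairing hM ha ha1 hb hb1, c.pairing hM hb hb1 hb hb1]
    ring
  have h1 := (Finset.sum_eq_zero_iff_of_nonneg
    (fun ψ _ => mul_nonneg (hr0 ψ) (Complex.normSq_nonneg _))).mp h0 χ hχ
  rcases mul_eq_zero.mp h1 with h | h
  · have h2 := hr χ
    rw [h, Complex.ofReal_zero, div_eq_zero_iff] at h2
    exact absurd h2 (not_or.mpr ⟨hS, Blocks.irr_one_ne_zero χ⟩)
  · exact sub_eq_zero.mp (Complex.normSq_eq_zero.mp h)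

/-- The column sum over the principal block at `b, a ∈ H`, `a ≠ 1`, vanishes unless conjugate. -/
theorem column {a b : G} (ha : a ∈ H) (ha1 : a ≠ 1) (hb : b ∈ H) :
    ∑ χ ∈ bl M G, χ.1 b * conj (χ.1 a) =
      if IsConj a b then ∑ χ ∈ bl M G, χ.1 a * conj (χ.1 a) else 0 := by
  haveI : Fact (Nat.Prime 2) := ⟨Nat.prime_two⟩
  haveI := hM.2.1
  split_ifs with h
  · refine Finset.sum_congr rfl fun χ _ => ?_
    rw [CharInt.char_eq_of_isConj (Char.irr_isCharacter χ) h]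
  · by_cases hb1 : b = 1
    · subst hb1
      exact weak_orth hM (by simp [IsPRegular]) (not_isPRegular c.two ha ha1)
    · rw [bl]
      convert Blocks.block_orthogonality hM.2.2 (isPPart_self c.two hb) (isPPart_self c.two ha)
        (fun h' => h h'.symm) (Blocks.isPBlock_principalBlock (M := M) (G := G) hM.2.2) using 1

end MinCfg

end Cfsg.Agent.ExtremelyClosed
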